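import Cfsg.Agent.Lib.Forms.Stab
import Cfsg.Agent.Lib.Forms.SUGen
import Cfsg.Agent.Lib.Symp.Order
import Cfsg.Agent.Lib.Unitary.Order

/-!
Stabilisers of subspaces in the matrix groups `Sp`, `GU`; orders of the stabilisers of totally
singular subspaces and the number of such subspaces.
-/

set_option autoImplicit false

namespace CfsgLib.Forms

open Module Matrix Cfsg CfsgLib.Unitary

universe u v

section bridge

variable {F : Type u} [Field F] {ι : Type*} [Fintype ι] [DecidableEq ι] {H : Type*} [Group H]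

/-- A subgroup of a matrix group cut out by a condition on linear equivalences. -/
noncomputable def subMatEquiv (toMat : H →* Matrix ι ι F) (hinj : Function.Injective toMat)
    (K : Subgroup ((ι → F) ≃ₗ[F] (ι → F))) (h1 : ∀ h, matEquiv toMat h ∈ K)
    (h2 : ∀ g ∈ K, ∃ h, ∀ v, toMat h *ᵥ v = g v) (S : Subgroup H)
    (T : Subgroup ((ι → F) ≃ₗ[F] (ι → F))) (hST : ∀ h, h ∈ S ↔ matEquiv toMat h ∈ T) :
    S ≃* ↥(K ⊓ T) :=
  matMulEquiv (toMat.comp S.subtype) (hinj.comp Subtype.val_injective) _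
    (fun h => ⟨h1 h, (hST h).1 h.2⟩) fun g hg => by
      obtain ⟨h, hh⟩ := h2 g hg.1
      have : matEquiv toMat h = g := LinearEquiv.ext hh
      exact ⟨⟨h, (hST h).2 (this ▸ hg.2)⟩, hh⟩

end bridge

section abstract

variable {F : Type u} [Field F] {σ : F →+* F} {V : Type v} [AddCommGroup V] [Module F V]

/-- Orbit-stabiliser count of the totally singular subspaces of a given dimension. -/
theorem PQ.TS.card_mul_card_stab {P : PQ σ V} [FiniteDimensional F V] (hP : P.Nondeg)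
    {W : Submodule F V} (hW : P.TS W) :
    Nat.card {U : Submodule F V // finrank F U = finrank F W ∧ P.TS U} *
      Nat.card ↥(P.isom ⊓ linStab W) = Nat.card P.isom := by
  let act : MulAction P.isom (Submodule F V) :=
    { smul := fun g U => U.map g.1.toLinearMap
      one_smul := fun U => Submodule.map_id U
      mul_smul := fun g h U => Submodule.map_comp h.1.toLinearMap g.1.toLinearMap U }
  have horb : MulAction.orbit P.isom W =
      {U : Submodule F V | finrank F U = finrank F W ∧ P.TS U} := by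
    ext U
    constructor
    · rintro ⟨g, rfl⟩
      exact ⟨LinearEquiv.finrank_map_eq g.1 W, hW.map (g := g.1.toLinearMap) g.2⟩
    · rintro ⟨h1, h2⟩
      obtain ⟨g, hg, h⟩ := hW.exists_map_eq hP h2 h1.symm
      exact ⟨⟨g, hg⟩, h⟩
  have hstab : MulAction.stabilizer P.isom W = (P.isom ⊓ linStab W).subgroupOf P.isom := by
    ext g
    rw [MulAction.mem_stabilizer_iff, Subgroup.mem_subgroupOf, Subgroup.mem_inf,
      mem_linStab_iff_map]
    exact ⟨fun h => ⟨g.2, h⟩, fun h => h.2⟩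
  rw [← (MulAction.stabilizer P.isom W).card_mul_index, MulAction.index_stabilizer, horb, hstab,
    Nat.card_congr (Subgroup.subgroupOfEquivOfLe inf_le_left).toEquiv, mul_comm,
    ← Nat.card_coe_set_eq]
  rfl

theorem PQ.nonempty_isom_sp [FiniteDimensional F V] (P : PQ (RingHom.id F) V) (hP : P.Nondeg)
    (hΛ : P.Λ = ⊤) {m : ℕ} (hm : finrank F V = 2 * m) :
    Nonempty (P.isom ≃* symplecticGroup (Fin m) F) := by
  obtain ⟨e, he⟩ := P.exists_isIso₂_spPQ hP hΛ hm
  exact ⟨(PQ.isomCongr he).trans (spEquiv (Fin m) F).symm⟩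

end abstract

section sp

variable {F : Type u} [Field F] {m : ℕ}

theorem spPQ_ts {l : Type*} [Fintype l] [DecidableEq l] {W : Submodule F (l ⊕ l → F)} :
    (spPQ l F).TS W ↔ ∀ u ∈ W, ∀ v ∈ W, spB l F u v = 0 :=
  ⟨fun h _ hu _ hv => h.B_eq hu hv, fun h => ⟨fun _ _ => trivial, fun v hv u hu => h u hu v hv⟩⟩

theorem spPQ_ts' {W : Submodule F (Fin m ⊕ Fin m → F)} :
    (spPQ (Fin m) F).TS W ↔ ∀ u ∈ W, ∀ v ∈ W, sympForm m F u v = 0 := by
  simp only [spPQ_ts, spB_eq_sympForm]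

/-- A subgroup of `Sp` cut out by a condition on linear equivalences. -/
noncomputable def spSubEquiv (S : Subgroup (symplecticGroup (Fin m) F))
    (T : Subgroup ((Fin m ⊕ Fin m → F) ≃ₗ[F] (Fin m ⊕ Fin m → F)))
    (hST : ∀ h, h ∈ S ↔ matEquiv (spToMat m F) h ∈ T) : S ≃* ↥((spPQ (Fin m) F).isom ⊓ T) :=
  subMatEquiv (spToMat m F) Subtype.val_injective _ sp_isIso
    (fun g hg => exists_sp_of_linearMap g.toLinearMap hg) S T hST

/-- The stabiliser of a subspace in `Sp`. -/
noncomputable def spStabEquiv (W : Submodule F (Fin m ⊕ Fin m → F)) :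
    stabilizing (spToMat m F) (W : Set (Fin m ⊕ Fin m → F)) ≃*
      ↥((spPQ (Fin m) F).isom ⊓ linStab W) :=
  spSubEquiv _ _ fun _ => Iff.rfl

theorem card_sp_fix_ts [Fintype F] {k : ℕ} (hk : k ≤ m) {W : Submodule F (Fin m ⊕ Fin m → F)}
    (hWk : finrank F W = k) (hW : (spPQ (Fin m) F).TS W) :
    Nat.card ↥((spPQ (Fin m) F).isom ⊓ linFix W) =
      Fintype.card F ^ (k * (k + 1) / 2 + 2 * k * (m - k)) *
        Nat.card (symplecticGroup (Fin (m - k)) F) := by
  obtain ⟨U, hU, -, hd, h⟩ := hW.card_fix (spPQ_nondeg _ F) hWk (d := 2 * (m - k))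
    (by simp; omega)
  obtain ⟨e⟩ := ((spPQ (Fin m) F).restrict U).nonempty_isom_sp
    ((spPQ _ F).restrict_nondeg_iff.2 hU) rfl hd
  have hΛ : Nat.card (spPQ (Fin m) F).Λ = Nat.card F := by
    change Nat.card (⊤ : AddSubgroup F) = _
    exact AddSubgroup.card_top
  rw [h, Nat.card_congr e.toEquiv, hΛ, ← pow_add, Nat.card_eq_fintype_card (α := F)]
  congr 2
  rw [show k * (k + 1) / 2 = (k + 1).choose 2 by rw [Nat.choose_two_right, mul_comm]; rfl,
    Nat.choose_succ_succ' k 1, Nat.choose_one_right]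
  ring

end sp

section gu

variable {F : Type u} [Field F] [Fintype F] {q : ℕ} (hF : Fintype.card F = q ^ 2)

theorem PQ.IsHerm.exists_isIso₂_uPQ {V : Type v} [AddCommGroup V] [Module F V]
    [FiniteDimensional F V] {P : PQ (Unitary.conj hF) V} (hH : P.IsHerm) (hP : P.Nondeg) {n : ℕ}
    (hn : finrank F V = n) : ∃ e : V ≃ₗ[F] (Fin n → F), P.IsIso₂ (uPQ hF n) e := by
  subst hn
  obtain ⟨b, hb⟩ := hH.exists_orthonormal_basis hP
  refine ⟨b.equivFun, hH.isIso₂ (uPQ_isHerm hF _) fun x y => ?_⟩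
  rw [uPQ_B, herm_def]
  conv_rhs => rw [← b.sum_equivFun x, ← b.sum_equivFun y]
  simp only [map_sum, LinearMap.sum_apply, P.B_smul_left, P.B_smul_right, hb, conj_apply]
  simp [mul_comm]

theorem PQ.IsHerm.nonempty_isom_gu {V : Type v} [AddCommGroup V] [Module F V]
    [FiniteDimensional F V] {P : PQ (Unitary.conj hF) V} (hH : P.IsHerm) (hP : P.Nondeg) {n : ℕ}
    (hn : finrank F V = n) : Nonempty (P.isom ≃* GU n F q) := by
  obtain ⟨e, he⟩ := hH.exists_isIso₂_uPQ hF hP hn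
  exact ⟨(PQ.isomCongr he).trans (guEquiv hF n).symm⟩

variable {n : ℕ}

theorem uPQ_ts {W : Submodule F (Fin n → F)} :
    (uPQ hF n).TS W ↔ ∀ u ∈ W, ∀ v ∈ W, hermForm n F q u v = 0 :=
  ⟨fun h _ hu _ hv => h.B_eq hv hu, fun h => ⟨fun u hu => ((uPQ_isHerm hF n).sing_iff u).2
    (h u hu u hu), fun v hv u hu => h v hv u hu⟩⟩

theorem card_uPQ_Λ : Nat.card (uPQ hF n).Λ = q := by
  refine Eq.trans (Nat.card_congr (Equiv.subtypeEquivRight fun a => ?_)) (card_trace_zero hF)
  exact (uPQ_isHerm hF n).mem_Λ a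

/-- A subgroup of `GU` cut out by a condition on linear equivalences. -/
noncomputable def guSubEquiv (S : Subgroup (GU n F q))
    (T : Subgroup ((Fin n → F) ≃ₗ[F] (Fin n → F)))
    (hST : ∀ h, h ∈ S ↔ matEquiv (guMat n F q) h ∈ T) : S ≃* ↥((uPQ hF n).isom ⊓ T) :=
  subMatEquiv (guMat n F q) (guMat_injective n) _ (gu_isIso hF n) (exists_gu_of_equiv hF n) S T hST

/-- The stabiliser of a subspace in `GU`. -/
noncomputable def guStabEquiv (W : Submodule F (Fin n → F)) :
    (stabilizing (glToMat (Fin n) F) (W : Set (Fin n → F))).subgroupOf (GU n F q) ≃*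
      ↥((uPQ hF n).isom ⊓ linStab W) :=
  guSubEquiv hF _ _ fun _ => Iff.rfl

theorem card_gu_fix_ts {k d : ℕ} (hk : n = 2 * k + d) {W : Submodule F (Fin n → F)}
    (hWk : finrank F W = k) (hW : (uPQ hF n).TS W) :
    Nat.card ↥((uPQ hF n).isom ⊓ linFix W) = q ^ (k * (2 * d + k)) * Nat.card (GU d F q) := by
  obtain ⟨U, hU, -, hd, h⟩ := hW.card_fix (uPQ_nondeg hF n) hWk (d := d) (by simpa using hk)
  obtain ⟨e⟩ := ((uPQ_isHerm hF n).restrict U).nonempty_isom_gu hF
    ((uPQ hF n).restrict_nondeg_iff.2 hU) hd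
  rw [h, Nat.card_congr e.toEquiv, card_uPQ_Λ, Nat.card_eq_fintype_card (α := F), hF, ← pow_mul,
    ← pow_add]
  congr 2
  have : 2 * k.choose 2 + k = k * k := by
    rw [Nat.choose_two_right, Nat.mul_div_cancel' (Nat.even_mul_pred_self k).two_dvd]
    cases k <;> simp; ring
  rw [mul_add, add_assoc, this]; ring

theorem card_gu_stab_ts {k d : ℕ} (hk : n = 2 * k + d) {W : Submodule F (Fin n → F)}
    (hWk : finrank F W = k) (hW : (uPQ hF n).TS W) :
    Nat.card ↥((uPQ hF n).isom ⊓ linStab W) = q ^ (k * (2 * d + k)) *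
      (∏ i : Fin k, ((q ^ 2) ^ k - (q ^ 2) ^ (i : ℕ))) * Nat.card (GU d F q) := by
  rw [hW.card_stab (uPQ_nondeg hF n), card_gu_fix_ts hF hk hWk hW, card_linearEquiv hWk,
    Nat.card_eq_fintype_card (α := F), hF]
  ring

end gu

end CfsgLib.Forms
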