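import Cfsg.Agent.Lib.Forms.Stab
import Cfsg.Agent.Lib.ClMax.SLStab
import Cfsg.Agent.Lib.ClAut.Induced

/-!
Subspace stabilisers and triangular subgroups in the general linear group; monomial matrices;
the Levi factor `GL_m` of the symplectic group.
-/

set_option autoImplicit false

namespace CfsgLib.Forms

open Module Matrix Cfsg

universe u v

section abstract

variable {F : Type u} [Field F] {V : Type v} [AddCommGroup V] [Module F V]

/-- The pointwise fixer of a complemented subspace. -/
theorem card_linFix [FiniteDimensional F V] {W U : Submodule F V} (h : IsCompl U W) :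
    Nat.card (linFix W) = Nat.card (U ≃ₗ[F] U) * Nat.card (U →ₗ[F] W) := by
  let e := Submodule.prodEquivOfIsCompl U W h
  have he : ∀ p, e p = p.1 + p.2 := fun _ => rfl
  let t : (U ≃ₗ[F] U) × (U →ₗ[F] W) → (V ≃ₗ[F] V) := fun p =>
    e.symm.trans ((p.1.skewProd (LinearEquiv.refl F W) p.2).trans e)
  have ht : ∀ p (u : U) (w : W), t p (u + w) = p.1 u + (w + p.2 u) := by
    intro p u w
    simp only [t, ← he (u, w), LinearEquiv.trans_apply, LinearEquiv.symm_apply_apply]
    rfl
  rw [← Nat.card_prod]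
  symm
  refine Nat.card_congr (Equiv.ofBijective (fun p => ⟨t p, fun w hw => by
    simpa using ht p 0 ⟨w, hw⟩⟩) ⟨fun p p' hp => ?_, fun g => ?_⟩)
  · have h1 : ∀ u, (p.1 u, p.2 u) = (p'.1 u, p'.2 u) := fun u => e.injective (by
      have h2 := ht p u 0
      rw [show t p = t p' from congrArg Subtype.val hp, ht] at h2
      simpa [he] using h2.symm)
    exact Prod.ext (LinearEquiv.ext fun u => congrArg Prod.fst (h1 u))
      (LinearMap.ext fun u => congrArg Prod.snd (h1 u))
  · let a : U →ₗ[F] U × W := e.symm.toLinearMap ∘ₗ g.1.toLinearMap ∘ₗ U.subtype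
    have ha : ∀ u, ((a u).1 : V) + (a u).2 = g.1 u := fun u => e.apply_symm_apply _
    have hinj : Function.Injective (LinearMap.fst F U W ∘ₗ a) := by
      rw [← LinearMap.ker_eq_bot, eq_bot_iff]
      intro u hu
      have h1 := ha u
      rw [show (a u).1 = 0 from hu, Submodule.coe_zero, zero_add, ← g.2 _ (a u).2.2] at h1
      have h2 : (u : V) ∈ W := g.1.injective h1 ▸ (a u).2.2
      exact Subtype.ext (Submodule.disjoint_def.1 h.disjoint _ u.2 h2)
    refine ⟨(LinearEquiv.ofInjectiveEndo _ hinj, LinearMap.snd F U W ∘ₗ a), Subtype.ext ?_⟩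
    ext1 v
    obtain ⟨⟨u, w⟩, rfl⟩ := e.surjective v
    change t _ ((u : V) + w) = g.1 ((u : V) + w)
    rw [ht, map_add, g.2 _ w.2, ← ha]
    change ((a u).1 : V) + (w + (a u).2) = _
    abel

/-- The order of a subspace stabiliser in the general linear group. -/
theorem card_linStab [Finite F] [FiniteDimensional F V] {W : Submodule F V} {k d : ℕ}
    (hk : finrank F W = k) (hd : finrank F V = k + d) :
    Nat.card (linStab W) = Nat.card F ^ (k * d) *
      (∏ i : Fin k, (Nat.card F ^ k - Nat.card F ^ (i : ℕ))) *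
        ∏ i : Fin d, (Nat.card F ^ d - Nat.card F ^ (i : ℕ)) := by
  obtain ⟨U, hU⟩ := W.exists_isCompl
  have hU1 : finrank F U = d := by
    have := Submodule.finrank_add_eq_of_isCompl hU; omega
  have h1 := card_inf_linStab ⊤ W (linStab W) le_rfl (inf_le_right.trans (linFix_le_linStab W))
  rw [MonoidHom.range_eq_top.2, Subgroup.card_top, top_inf_eq, top_inf_eq, card_linFix hU.symm,
    card_linearEquiv hk, card_linearEquiv hU1, Module.natCard_eq_pow_finrank (K := F) (V := U →ₗ[F] W),
    Module.finrank_linearMap, hk, hU1] at h1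
  · rw [h1, mul_comm d k]; ring
  intro φ
  let e := Submodule.prodEquivOfIsCompl W U hU
  have : ∀ w : W, (e.symm.trans ((φ.prodCongr (LinearEquiv.refl F U)).trans e)) w = φ w := by
    intro w
    simp [e]
  refine ⟨⟨e.symm.trans ((φ.prodCongr (LinearEquiv.refl F U)).trans e), trivial,
    mem_linStab_of_le fun v hv => ?_⟩, LinearEquiv.ext fun w => Subtype.ext (this w)⟩
  rw [this ⟨v, hv⟩]; exact (φ _).2

/-- A subspace is the only non-trivial subspace invariant under its stabiliser. -/
theorem eq_of_linStab_le [FiniteDimensional F V] {U U' : Submodule F V} (h : linStab U ≤ linStab U')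
    (h0 : U' ≠ ⊥) (h1 : U' ≠ ⊤) : U = U' := by
  have key : ∀ {v x : V} {φ : Dual F V}, ClMax.HasTv (ClMax.stabV U) v φ → x ∈ U' → φ x = 1 →
      v ∈ U' := by
    rintro v x φ ⟨g, hg, hg'⟩ hx hφ
    have := (h hg x).1 hx
    rw [hg', hφ, one_smul] at this
    simpa using U'.sub_mem this hx
  have h2 : U' ≤ U := by
    intro x hx
    by_contra hxU
    obtain ⟨φ, h3, h4⟩ := ClMax.exists_dual_one hxU
    refine h1 (eq_top_iff.2 fun v _ => ?_)
    have := key (ClMax.hasTv_stabV_of_ann (v := v - φ v • x) h4 (by simp [h3])) hx h3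
    simpa using U'.add_mem this (U'.smul_mem (φ v) hx)
  refine le_antisymm (fun u hu => ?_) h2
  obtain ⟨x, hx, hx0⟩ := Submodule.exists_mem_ne_zero_of_ne_bot h0
  by_cases hxu : x ∈ Submodule.span F {u}
  · obtain ⟨c, rfl⟩ := Submodule.mem_span_singleton.1 hxu
    exact (U'.smul_mem_iff (by rintro rfl; simp at hx0)).1 hx
  · obtain ⟨φ, h3, h4⟩ := ClMax.exists_dual_one_zero hxu
    exact key (ClMax.hasTv_stabV_of_mem hu h4) hx h3

end abstract

section coord

variable {F : Type u} [Field F] {ι : Type*}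

variable (F) in
/-- The coordinate subspace of vectors vanishing on the coordinates satisfying `p`. -/
def coordSub (p : ι → Prop) : Submodule F (ι → F) where
  carrier := {v | ∀ i, p i → v i = 0}
  add_mem' ha hb i hi := by simp [ha i hi, hb i hi]
  zero_mem' _ _ := rfl
  smul_mem' c _ ha i hi := by simp [ha i hi]

theorem mem_coordSub {p : ι → Prop} {v : ι → F} : v ∈ coordSub F p ↔ ∀ i, p i → v i = 0 := Iff.rfl

theorem single_mem_coordSub [DecidableEq ι] {p : ι → Prop} {j : ι} :
    (Pi.single j 1 : ι → F) ∈ coordSub F p ↔ ¬ p j :=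
  ⟨fun h hj => by simpa using h j hj, fun h i hi => Pi.single_eq_of_ne (by rintro rfl; exact h hi) _⟩

theorem finrank_coordSub [Fintype ι] (p : ι → Prop) [DecidablePred p] :
    finrank F (coordSub F p) = Fintype.card {i // ¬ p i} := by
  rw [← Module.finrank_fintype_fun_eq_card F]
  exact LinearEquiv.finrank_eq
    { toFun := fun v i => v.1 i
      map_add' := fun _ _ => rfl
      map_smul' := fun _ _ => rfl
      invFun := fun w => ⟨fun i => if h : p i then 0 else w ⟨i, h⟩, fun i hi => dif_pos hi⟩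
      left_inv := fun v => by
        ext i
        by_cases h : p i
        · simp [h, v.2 i h]
        · simp [h]
      right_inv := fun w => by ext i; simp [i.2] }

theorem finrank_coordSub_le {n k : ℕ} (hk : k ≤ n) :
    finrank F (coordSub F fun i : Fin n => k ≤ (i : ℕ)) = k := by
  rw [finrank_coordSub]
  simp only [not_le]
  rw [Fintype.card_subtype, Fin.card_filter_val_lt, min_eq_right hk]

variable [Fintype ι] [DecidableEq ι]

theorem mulVec_mem_coordSub_iff {p : ι → Prop} {A : Matrix ι ι F} :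
    (∀ v ∈ coordSub F p, A *ᵥ v ∈ coordSub F p) ↔ ∀ i j, p i → ¬ p j → A i j = 0 := by
  constructor
  · intro h i j hi hj
    simpa using h _ (single_mem_coordSub.2 hj) i hi
  · intro h v hv i hi
    refine Finset.sum_eq_zero fun j _ => ?_
    by_cases hj : p j
    · rw [hv j hj, mul_zero]
    · change A i j * v j = 0
      rw [h i j hi hj, zero_mul]

theorem mem_linStab_coordSub {H : Type*} [Group H] (toMat : H →* Matrix ι ι F) {p : ι → Prop}
    {g : H} : matEquiv toMat g ∈ linStab (coordSub F p) ↔ ∀ i j, p i → ¬ p j → toMat g i j = 0 :=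
  ⟨fun h => mulVec_mem_coordSub_iff.1 fun v hv => (h v).1 hv,
    fun h => mem_linStab_of_le (mulVec_mem_coordSub_iff.2 h)⟩

/-- The number of invertible upper triangular matrices. -/
theorem card_upperTriangular [Finite F] [LinearOrder ι] :
    Nat.card {g : GL ι F // ∀ i j, j < i → (g : Matrix ι ι F) i j = 0} =
      Nat.card F ^ (Fintype.card ι).choose 2 * (Nat.card F - 1) ^ Fintype.card ι := by
  have h1 : Nat.card {p : ι × ι // p.1 < p.2} = (Fintype.card ι).choose 2 := by
    rw [Nat.card_eq_fintype_card, Fintype.card_subtype, Fintype.card_product_filter_lt]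
  rw [← h1, ← Nat.card_units, ← Nat.card_eq_fintype_card, ← Nat.card_fun, ← Nat.card_fun,
    ← Nat.card_prod]
  have hne : ∀ g : {g : GL ι F // ∀ i j, j < i → (g : Matrix ι ι F) i j = 0}, ∀ i,
      (g.1 : Matrix ι ι F) i i ≠ 0 := by
    intro g i
    have := g.1.det_ne_zero
    rw [det_of_isUpperTriangular (fun i j h => g.2 i j h)] at this
    exact Finset.prod_ne_zero_iff.1 this i (Finset.mem_univ i)
  refine Nat.card_congr (Equiv.ofBijective (fun g => (fun p => g.1 p.1.1 p.1.2,
    fun i => Units.mk0 _ (hne g i))) ⟨fun g h hgh => ?_, fun p => ?_⟩)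
  · ext i j
    rcases lt_trichotomy i j with hij | rfl | hij
    · exact congrFun (congrArg Prod.fst hgh) ⟨(i, j), hij⟩
    · exact congrArg Units.val (congrFun (congrArg Prod.snd hgh) i)
    · rw [g.2 i j hij, h.2 i j hij]
  · let A : Matrix ι ι F := Matrix.of fun i j =>
      if h : i < j then p.1 ⟨(i, j), h⟩ else if i = j then p.2 i else 0
    have hA : ∀ i j, j < i → A i j = 0 := fun i j h => by simp [A, h.not_gt, h.ne']
    refine ⟨⟨GeneralLinearGroup.mkOfDetNeZero A ?_, hA⟩, Prod.ext ?_ ?_⟩
    · rw [det_of_isUpperTriangular (fun i j h => hA i j h)]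
      exact Finset.prod_ne_zero_iff.2 fun i _ => by simp [A]
    · ext ⟨⟨i, j⟩, h⟩
      exact dif_pos h
    · ext i
      simp [A]

/-- A non-zero entry in each row of an invertible matrix. -/
theorem exists_row_ne_zero (g : GL ι F) (i : ι) : ∃ j, (g : Matrix ι ι F) i j ≠ 0 := by
  by_contra h
  push Not at h
  exact g.det_ne_zero (det_eq_zero_of_row_eq_zero i h)

/-- A non-zero entry in each column of an invertible matrix. -/
theorem exists_col_ne_zero (g : GL ι F) (j : ι) : ∃ i, (g : Matrix ι ι F) i j ≠ 0 := by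
  by_contra h
  push Not at h
  exact g.det_ne_zero (det_eq_zero_of_column_eq_zero j h)

/-- The Levi factor of the Siegel parabolic subgroup of the symplectic group. -/
def spLevi (ι : Type*) [Fintype ι] [DecidableEq ι] (F : Type u) [Field F] :
    GL ι F →* symplecticGroup ι F where
  toFun g := ⟨fromBlocks g 0 0 (ClAut.glInvT ι F g), by
    rw [SymplecticGroup.mem_iff, Matrix.J]
    simp [fromBlocks_multiply, fromBlocks_transpose, ClAut.coe_glInvT, ← transpose_mul]⟩
  map_one' := by ext1; simp
  map_mul' g h := by ext1; simp [fromBlocks_multiply]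

theorem coe_spLevi (g : GL ι F) : (spLevi ι F g : Matrix (ι ⊕ ι) (ι ⊕ ι) F) =
    fromBlocks (g : Matrix ι ι F) 0 0 ((g⁻¹ : GL ι F) : Matrix ι ι F)ᵀ := rfl

theorem spLevi_injective : Function.Injective (spLevi ι F) := fun _ _ h =>
  Units.ext (fromBlocks_inj.1 (congrArg Subtype.val h)).1

theorem mem_range_spLevi {A : symplecticGroup ι F} : A ∈ (spLevi ι F).range ↔
    (∀ i j, A.1 (Sum.inr i) (Sum.inl j) = 0) ∧ ∀ i j, A.1 (Sum.inl i) (Sum.inr j) = 0 := by
  constructor
  · rintro ⟨g, rfl⟩
    exact ⟨fun _ _ => rfl, fun _ _ => rfl⟩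
  · rintro ⟨h1, h2⟩
    have h3 : A.1 = fromBlocks A.1.toBlocks₁₁ 0 0 A.1.toBlocks₂₂ := by
      ext (i | i) (j | j)
      exacts [rfl, h2 i j, h1 i j, rfl]
    have h4 := SymplecticGroup.mem_iff.1 A.2
    rw [h3, Matrix.J] at h4
    simp only [fromBlocks_multiply, fromBlocks_transpose, fromBlocks_inj] at h4
    have h5 : A.1.toBlocks₁₁ * A.1.toBlocks₂₂ᵀ = 1 := by simpa using h4.2.1
    exact ⟨⟨_, _, h5, mul_eq_one_comm.1 h5⟩, Subtype.ext h3.symm⟩

end coord

end CfsgLib.Forms
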